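import Cfsg.Agent.Lib.WordCert.Cert
import Cfsg.Agent.Lib.StemCert.Bound

/-!
The vanishing of the kernel of a stem extension given by a word certificate.
-/

set_option autoImplicit false
set_option linter.style.haveILetI false

namespace Cfsg.Agent.WordCert

open Cfsg.Agent.StemCert

universe u

/-- The order of a group generated by elements satisfying a polycyclic presentation. -/
theorem card_closure_pc {E : Type*} [Group E] [Finite E] (m p : ℕ) (hp : 0 < p) (B : ℕ → E)
    (hpow : ∀ i < m, B i ^ p ∈ Subgroup.closure (B '' Set.Ioo i m))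
    (hconj : ∀ i < m, ∀ j, i < j → j < m → (B i)⁻¹ * B j * B i ∈ Subgroup.closure (B '' Set.Ioo i m)) :
    Nat.card (Subgroup.closure (B '' Set.Iio m)) ≤ p ^ m := by
  have H : ∀ d, d ≤ m → Nat.card (Subgroup.closure (B '' Set.Ico (m - d) m)) ≤ p ^ d := by
    intro d
    induction d with
    | zero => intro _; simp
    | succ d ih =>
      intro hd
      obtain ⟨i, hi⟩ : ∃ i, i = m - (d + 1) := ⟨_, rfl⟩
      rw [← hi]
      have him : i < m := by omega
      have hIoo : Set.Ioo i m = Set.Ico (m - d) m := by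
        ext k; simp only [Set.mem_Ioo, Set.mem_Ico]; omega
      have hins : Set.Ico i m = insert i (Set.Ioo i m) := (Set.Ioo_insert_left him).symm
      set K := Subgroup.closure (B '' Set.Ioo i m) with hK
      have hKc : Nat.card K ≤ p ^ d := by rw [hK, hIoo]; exact ih (by omega)
      have hxn : (B i)⁻¹ ∈ Subgroup.normalizer (K : Set E) :=
        SchurSplit.mem_normalizer_closure _ _ fun s hs => by
          obtain ⟨j, hj, rfl⟩ := hs
          rw [inv_inv]
          exact hconj i him j hj.1 hj.2
      have hxn' : B i ∈ Subgroup.normalizer (K : Set E) := by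
        simpa using inv_mem hxn
      have hle : Subgroup.zpowers (B i) ≤ Subgroup.normalizer (K : Set E) := Subgroup.zpowers_le.2 hxn'
      have hmul : ((K ⊔ Subgroup.zpowers (B i) : Subgroup E) : Set E) =
          Set.range (fun v : K × Fin p => (v.1 : E) * B i ^ (v.2 : ℕ)) := by
        ext y
        constructor
        · intro hy
          rw [Subgroup.coe_mul_of_right_le_normalizer_left _ _ hle] at hy
          obtain ⟨t, ht, z, hz, rfl⟩ := hy
          obtain ⟨k, hk⟩ := (mem_powers_iff_mem_zpowers (x := B i)).2 hz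
          refine ⟨(⟨t * (B i ^ p) ^ (k / p), mul_mem ht (pow_mem (hpow i him) _)⟩,
            ⟨k % p, Nat.mod_lt _ hp⟩), ?_⟩
          simp only at hk ⊢
          rw [← hk, mul_assoc, ← pow_mul, ← pow_add, Nat.div_add_mod]
        · rintro ⟨⟨t, a⟩, rfl⟩
          exact mul_mem (Subgroup.mem_sup_left t.2)
            (Subgroup.mem_sup_right (pow_mem (Subgroup.mem_zpowers _) _))
      have h2 := Finite.card_range_le (fun v : K × Fin p => (v.1 : E) * B i ^ (v.2 : ℕ))
      rw [← hmul, Nat.card_prod, Nat.card_fin] at h2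
      have e : Subgroup.closure (B '' Set.Ico i m) = K ⊔ Subgroup.zpowers (B i) := by
        rw [hins, Set.image_insert_eq, Set.insert_eq, Subgroup.closure_union, ← Subgroup.zpowers_eq_closure,
          sup_comm]
      rw [e, pow_succ]
      exact h2.trans (Nat.mul_le_mul_right p hKc)
  have h := H m le_rfl
  rw [Nat.sub_self] at h
  rwa [show Set.Iio m = Set.Ico 0 m by ext; simp]

variable {Γ G : Type u} [Group Γ] [Finite Γ] [Group G]

open Cert in
/-- A word certificate kills the kernel. -/
theorem ker_eq_bot_of_cert (C : Cert) (hshape : C.shapeOk = true) (hlin : C.linOk = true)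
    (g : ℕ → G) (γ : ℕ → G)
    (hrel : ∀ r < C.rels.length, ((C.rel r).1.map g).prod = ((C.rel r).2.map g).prod)
    (hslot : ∀ s < C.slots.length, γ (C.slot s).1 * ((C.slot s).2.1.map g).prod =
      ((C.slot s).2.2.map g).prod * γ (C.slot s).1)
    (hinj : ((C.nfs C.m).map fun w => (w.map g).prod).Nodup)
    (hidx : ∀ H : Subgroup G, Nat.card H = C.p ^ C.m → Nat.Coprime C.n H.index)
    (π : Γ →* G) (hπ : Function.Surjective π) (hc : π.ker ≤ Subgroup.center Γ)
    (hd : π.ker ≤ commutator Γ) (hexp : ∀ z ∈ π.ker, z ^ C.n = 1) : π.ker = ⊥ := by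
  classical
  simp only [WordCert.Cert.shapeOk, WordCert.Cert.pcOk, Bool.and_eq_true, Nat.blt, Nat.ble_eq, List.all_eq_true, List.any_eq_true,
    List.mem_range, Bool.or_eq_true, beq_iff_eq, WordCert.Cert.above] at hshape
  obtain ⟨⟨⟨⟨hn0, hn16⟩, hp⟩, hpc⟩, hceq⟩ := hshape
  have hn : 0 < C.n ∧ C.n ≤ 16 := ⟨hn0, hn16⟩
  choose L hL using hπ
  let A : ℕ → Γ := fun i => L (g i)
  let Gc : ℕ → Γ := fun i => L (γ i)
  have hπA : ∀ w : List ℕ, π ((w.map A).prod) = (w.map g).prod := fun w => by
    rw [map_list_prod, List.map_map]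
    exact congrArg List.prod (List.map_congr_left fun i _ => hL (g i))
  let ν : ℕ → Γ := fun j =>
    if j < C.rels.length then ((C.rel j).1.map A).prod * (((C.rel j).2.map A).prod)⁻¹
    else if j - C.rels.length < C.slots.length then
      Gc (C.slot (j - C.rels.length)).1 * ((C.slot (j - C.rels.length)).2.1.map A).prod *
        (((C.slot (j - C.rels.length)).2.2.map A).prod * Gc (C.slot (j - C.rels.length)).1)⁻¹
    else 1
  have hker : ∀ j, ν j ∈ π.ker := by
    intro j
    simp only [ν]
    split_ifs with h1 h2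
    · rw [MonoidHom.mem_ker, map_mul, map_inv, hπA, hπA, hrel j h1, mul_inv_cancel]
    · rw [MonoidHom.mem_ker]
      simp only [map_mul, map_inv, hπA, Gc, hL]
      rw [mul_inv_eq_one]
      exact hslot _ h2
    · exact one_mem _
  have hν : Unk C ν := ⟨fun j => hc (hker j), fun j => hexp _ (hker j)⟩
  have hr : RelHyp C ν A := by
    intro r hr'
    simp only [ν, if_pos hr', inv_mul_cancel_right]
  have hG : ∀ s < C.slots.length, Gc (C.slot s).1 * ((C.slot s).2.1.map A).prod =
      ν (C.rels.length + s) * ((C.slot s).2.2.map A).prod * Gc (C.slot s).1 := by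
    intro s hs
    simp only [ν, if_neg (show ¬ C.rels.length + s < C.rels.length by omega), Nat.add_sub_cancel_left,
      if_pos hs]
    group
  simp only [WordCert.Cert.linOk, Bool.and_eq_true, beq_iff_eq, List.all_eq_true, List.mem_range] at hlin
  obtain ⟨hder, hres⟩ := hlin
  have hrow : ∀ r, ev C.M ν (C.rows.getD r 0) = 1 := by
    intro r
    by_cases hr' : r < C.rows.length
    · have hm : C.rows.getD r 0 ∈ C.derived := by
        rw [hder, List.getD_eq_getElem _ _ hr']; exact List.getElem_mem _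
      simp only [WordCert.Cert.derived, List.mem_append, List.mem_map] at hm
      rcases hm with ⟨x, -, e⟩ | ⟨x, hx, e⟩ <;> rw [← e]
      · exact eqS_sound hn hν hr x
      · exact eqC_sound hn hν hr hG x fun s hs =>
          ⟨(hceq x hx s hs).1, Nat.eq_of_beq_eq_true (hceq x hx s hs).2⟩
    · rw [List.getD_eq_default _ _ (not_lt.1 hr'), ev_zero]
  have hcombo : ∀ l, ev C.M ν (C.combo l) = 1 := by
    intro l
    induction l with
    | nil => exact ev_zero _ _
    | cons q l ih =>
      obtain ⟨r, k⟩ := q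
      rw [WordCert.Cert.combo, ev_add hn hν, ev_fscale hn.1 hn.2 _ _ _ hν.cen hν.exp, hrow, one_pow, one_mul, ih]
  let B : ℕ → Γ := fun k => ev C.M ν (C.D.getD k 0) * A k
  have hB : ∀ w : List ℕ, (w.map B).prod = ev C.M ν (C.dsum w) * (w.map A).prod := by
    intro w
    induction w with
    | nil =>
      show (1 : Γ) = ev C.M ν 0 * 1
      rw [ev_zero, mul_one]
    | cons k w ih =>
      show B k * (w.map B).prod = ev C.M ν (fadd C.n C.M (C.D.getD k 0) (C.dsum w)) *
        (A k * (w.map A).prod)
      rw [ih, ev_fadd hn.1 hn.2 _ _ hν.cen hν.exp]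
      show ev C.M ν (C.D.getD k 0) * A k * (ev C.M ν (C.dsum w) * (w.map A).prod) = _
      rw [mul_assoc (ev C.M ν (C.D.getD k 0)), ← mul_assoc (A k), comm_ev hν]
      simp only [mul_assoc]
  have hrB : ∀ r ∈ C.rels, (r.1.map B).prod = (r.2.map B).prod := by
    intro r hrm
    obtain ⟨i, hi, rfl⟩ := List.getElem_of_mem hrm
    have hrl : C.rel i = C.rels[i] := by rw [Cert.rel, List.getD_eq_getElem _ _ hi]
    have h1 : ev C.M ν (C.resid i) = 1 := by
      rw [Nat.eq_of_beq_eq_true (hres i hi)]; exact hcombo _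
    rw [WordCert.Cert.resid, ev_sub hn hν, ev_add hn hν,
      ev_fvar C.M ν i (lt_of_lt_of_le hi (Nat.le_add_right _ _)), mul_inv_eq_one] at h1
    rw [← hrl, hB, hB, ← h1, hr i hi, ← mul_assoc,
      Subgroup.mem_center_iff.1 (hν.cen i) (ev C.M ν (C.dsum (C.rel i).1))]
  have habove : ∀ i, ∀ w : List ℕ, (∀ k ∈ w, i + 1 ≤ k ∧ k + 1 ≤ C.m) →
      (w.map B).prod ∈ Subgroup.closure (B '' Set.Ioo i C.m) := fun i w hw =>
    list_prod_mem fun y hy => by
      obtain ⟨k, hk, rfl⟩ := List.mem_map.1 hy
      exact Subgroup.subset_closure ⟨k, ⟨(hw k hk).1, (hw k hk).2⟩, rfl⟩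
  have hcardT : Nat.card (Subgroup.closure (B '' Set.Iio C.m)) ≤ C.p ^ C.m := by
    refine card_closure_pc C.m C.p hp B (fun i hi => ?_) fun i hi j hij hj => ?_
    · obtain ⟨r, hrm, he, hw⟩ := (hpc i hi).1
      have := hrB r hrm
      rw [he, List.map_replicate, List.prod_replicate] at this
      rw [this]
      exact habove i _ hw
    · obtain h | ⟨r, hrm, he, hw⟩ := (hpc i hi).2 j hj
      · omega
      have := hrB r hrm
      rw [he] at this
      cases hr2 : r.2 with
      | nil => rw [hr2] at hw; simp at hw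
      | cons k w =>
        rw [hr2] at hw this
        simp only [Bool.and_eq_true, List.all_eq_true, Nat.ble_eq] at hw
        obtain rfl : k = i := Nat.eq_of_beq_eq_true hw.1
        simp only [List.map_cons, List.map_nil, List.prod_cons, List.prod_nil, mul_one] at this
        rw [mul_assoc, this, inv_mul_cancel_left]
        exact habove k _ hw.2
  set T : Subgroup Γ := Subgroup.closure (B '' Set.Iio C.m) with hT
  have hπB : ∀ w : List ℕ, π ((w.map B).prod) = (w.map g).prod := fun w => by
    rw [hB, map_mul, hπA, MonoidHom.mem_ker.1 (ev_mem π.ker C.M ν hker (C.dsum w)), one_mul]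
  have hmem : ∀ w ∈ C.nfs C.m, (w.map B).prod ∈ T := fun w hw => list_prod_mem fun y hy => by
    obtain ⟨k, hk, rfl⟩ := List.mem_map.1 hy
    exact Subgroup.subset_closure ⟨k, C.nfs_lt C.m le_rfl w hw k hk, rfl⟩
  have hge : C.p ^ C.m ≤ Nat.card (T.map π) := by
    set L' := (C.nfs C.m).map fun w => (w.map g).prod with hL'
    have hl : L'.length = C.p ^ C.m := by rw [hL', List.length_map, C.nfs_length]
    rw [← hl, ← List.toFinset_card_of_nodup hinj, ← Set.ncard_coe_finset, ← SetLike.coe_sort_coe,
      Nat.card_coe_set_eq]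
    refine Set.ncard_le_ncard (fun y hy => ?_) (Set.Finite.subset ((Set.toFinite (T : Set Γ)).image π) ?_)
    · rw [Finset.mem_coe, List.mem_toFinset, hL', List.mem_map] at hy
      obtain ⟨w, hw, rfl⟩ := hy
      exact ⟨_, hmem w hw, hπB w⟩
    · exact fun y hy => hy
  let f : T → T.map π := fun x => ⟨π x, x, x.2, rfl⟩
  have hfs : Function.Surjective f := by
    rintro ⟨y, x, hx, rfl⟩; exact ⟨⟨x, hx⟩, rfl⟩
  have hle := Nat.card_le_card_of_surjective f hfs
  haveI : Finite (T.map π) := Finite.of_surjective f hfs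
  have hfb : Function.Bijective f :=
    (Nat.bijective_iff_surjective_and_card f).2 ⟨hfs, le_antisymm (hcardT.trans hge) hle⟩
  have hker1 : ∀ x ∈ T, π x = 1 → x ∈ Subgroup.zpowers (1 : Γ) := fun x hx h1 => by
    have : (⟨x, hx⟩ : T) = 1 := hfb.1 (Subtype.ext (h1.trans (map_one π).symm))
    rw [show x = 1 from congrArg Subtype.val this]
    exact one_mem _
  have hfin := mem_zpowers_of_transfer π (fun y => ⟨L y, hL y⟩) hc hexp hd T 1 hker1
    (hidx _ (le_antisymm (hle.trans hcardT) hge))
  rwa [Subgroup.zpowers_one_eq_bot, le_bot_iff] at hfin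

end Cfsg.Agent.WordCert
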