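import Cfsg.Agent.Lib.StemCert.Forms

/-!
A certificate bounding stem extensions by rewriting derivations in the relations of a polycyclic
presentation: no table of normal forms is used, so it scales to Sylow subgroups of a few thousand elements.
-/

set_option autoImplicit false

namespace Cfsg.Agent.WordCert

open Cfsg.Agent.StemCert

/-- The certificate. -/
structure Cert where
  /-- number of generators -/
  m : ℕ
  /-- their relative order -/
  p : ℕ
  /-- exponent of the kernel -/
  n : ℕ
  /-- relations, two words -/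
  rels : List (List ℕ × List ℕ)
  /-- conjugation identities: conjugator and two words -/
  slots : List (ℕ × List ℕ × List ℕ)
  /-- a word with two derivations -/
  eqs : List (List ℕ × List (ℕ × ℕ) × List (ℕ × ℕ))
  /-- two words in the slots, with derivations of their four expansions -/
  ceqs : List ((List ℕ × List ℕ) × (List (ℕ × ℕ) × List (ℕ × ℕ)) × (List (ℕ × ℕ) × List (ℕ × ℕ)))
  /-- the resulting rows -/
  rows : List ℕ
  /-- change of lifts -/
  D : List ℕ
  /-- each residual as a combination of rows: row and coefficient -/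
  combs : List (List (ℕ × ℕ))

/-- Remove a prefix. -/
def stripPre : List ℕ → List ℕ → Option (List ℕ)
  | [], w => some w
  | _ :: _, [] => none
  | a :: l, b :: w => bif Nat.beq a b then stripPre l w else none

theorem stripPre_spec : ∀ l w t, stripPre l w = some t → w = l ++ t
  | [], w, t, h => by simp only [stripPre, Option.some.injEq] at h; simp [h]
  | a :: l, [], t, h => by simp [stripPre] at h
  | a :: l, b :: w, t, h => by
    simp only [stripPre] at h
    cases hab : Nat.beq a b with
    | false => rw [hab] at h; simp at h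
    | true =>
      rw [hab] at h
      rw [stripPre_spec l w t h, Nat.eq_of_beq_eq_true hab, List.cons_append]

namespace Cert

variable (C : Cert)

/-- Number of unknowns. -/
def M : ℕ := C.rels.length + C.slots.length
/-- A relation. -/
def rel (r : ℕ) : List ℕ × List ℕ := C.rels.getD r ([], [])
/-- A conjugation identity. -/
def slot (s : ℕ) : ℕ × List ℕ × List ℕ := C.slots.getD s (0, [], [])
/-- Sum of forms. -/
def add (F G : ℕ) : ℕ := fadd C.n C.M F G
/-- Difference of forms. -/
def sub (F G : ℕ) : ℕ := fsub C.n C.M F G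

/-- Rewrite once. -/
def step (x : ℕ × ℕ) (w : List ℕ) : Option (List ℕ) :=
  bif Nat.blt x.2 C.rels.length then
    (stripPre (C.rel x.2).1 (w.drop x.1)).map fun t => w.take x.1 ++ ((C.rel x.2).2 ++ t)
  else none

/-- Rewrite repeatedly, collecting the relation values. -/
def derive : List (ℕ × ℕ) → ℕ → List ℕ → Option (ℕ × List ℕ)
  | [], F, w => some (F, w)
  | x :: xs, F, w =>
    match C.step x w with
    | none => none
    | some w' => derive xs (C.add F (fvar x.2)) w'

/-- An equation from two derivations. -/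
def eqS (x : List ℕ × List (ℕ × ℕ) × List (ℕ × ℕ)) : ℕ :=
  match C.derive x.2.1 0 x.1, C.derive x.2.2 0 x.1 with
  | some a, some b => bif a.2 == b.2 then C.sub a.1 b.1 else 0
  | _, _ => 0

/-- The unknowns of a word in the slots. -/
def slotVars (w : List ℕ) : ℕ := fsum C.n C.M (w.map fun s => fvar (C.rels.length + s))

/-- An equation from two words in the slots. -/
def eqC (x : (List ℕ × List ℕ) × (List (ℕ × ℕ) × List (ℕ × ℕ)) × (List (ℕ × ℕ) × List (ℕ × ℕ))) : ℕ :=
  match C.derive x.2.1.1 0 (x.1.1.flatMap fun s => (C.slot s).2.1),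
      C.derive x.2.1.2 0 (x.1.1.flatMap fun s => (C.slot s).2.2),
      C.derive x.2.2.1 0 (x.1.2.flatMap fun s => (C.slot s).2.1),
      C.derive x.2.2.2 0 (x.1.2.flatMap fun s => (C.slot s).2.2) with
  | some a, some a', some b, some b' =>
    bif a.2 == b.2 && a'.2 == b'.2 then
      C.sub (C.sub (C.add (C.slotVars x.1.1) a'.1) a.1) (C.sub (C.add (C.slotVars x.1.2) b'.1) b.1)
    else 0
  | _, _, _, _ => 0

/-- The derived rows. -/
def derived : List ℕ := C.eqs.map C.eqS ++ C.ceqs.map C.eqC

/-- A combination of rows. -/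
def combo : List (ℕ × ℕ) → ℕ
  | [] => 0
  | (r, k) :: l => C.add (fscale C.n k C.M (C.rows.getD r 0)) (combo l)

/-- Sum of the changes along a word. -/
def dsum (w : List ℕ) : ℕ := fsum C.n C.M (w.map fun k => C.D.getD k 0)

/-- The remaining value of a relation. -/
def resid (r : ℕ) : ℕ := C.sub (C.add (fvar r) (C.dsum (C.rel r).1)) (C.dsum (C.rel r).2)

/-- All letters are above `i`. -/
def above (i : ℕ) (w : List ℕ) : Bool := w.all fun k => Nat.blt i k && Nat.blt k C.m

/-- The relations contain a polycyclic presentation. -/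
def pcOk : Bool :=
  (List.range C.m).all fun i =>
    (C.rels.any fun r => (r.1 == List.replicate C.p i) && C.above i r.2) &&
      (List.range C.m).all fun j => Nat.ble j i ||
        C.rels.any fun r => (r.1 == [j, i]) &&
          match r.2 with
          | [] => false
          | k :: w => Nat.beq k i && C.above i w

/-- The words are in range. -/
def shapeOk : Bool :=
  Nat.blt 0 C.n && Nat.ble C.n 16 && Nat.blt 0 C.p && C.pcOk &&
    C.ceqs.all (fun x => (x.1.1 ++ x.1.2).all fun s => Nat.blt s C.slots.length &&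
      Nat.beq (C.slot s).1 (C.slot ((x.1.1 ++ x.1.2).headD 0)).1)

/-- The linear algebra. -/
def linOk : Bool :=
  C.derived == C.rows &&
    (List.range C.rels.length).all (fun r => Nat.beq (C.resid r) (C.combo (C.combs.getD r [])))

/-- The normal forms on the letters from `i` on. -/
def nfs : ℕ → List (List ℕ)
  | 0 => [[]]
  | d + 1 => (List.range C.p).flatMap fun a => (nfs d).map fun w => List.replicate a (C.m - (d + 1)) ++ w

theorem nfs_length : ∀ d, (C.nfs d).length = C.p ^ d
  | 0 => rfl
  | d + 1 => by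
    simp [nfs, List.length_flatMap, nfs_length d, pow_succ, mul_comm]

theorem nfs_lt : ∀ d, d ≤ C.m → ∀ w ∈ C.nfs d, ∀ k ∈ w, k < C.m
  | 0, _, w, hw, k, hk => by simp [nfs] at hw; simp [hw] at hk
  | d + 1, hd, w, hw, k, hk => by
    simp only [nfs, List.mem_flatMap, List.mem_map] at hw
    obtain ⟨a, -, u, hu, rfl⟩ := hw
    rcases List.mem_append.1 hk with h | h
    · rw [List.eq_of_mem_replicate h]; omega
    · exact nfs_lt d (by omega) u hu k h

variable {C}
variable {Γ : Type*} [Group Γ]

/-- The hypotheses on the values of relations. -/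
def RelHyp (C : Cert) (ν : ℕ → Γ) (A : ℕ → Γ) : Prop :=
  ∀ r < C.rels.length, ((C.rel r).1.map A).prod = ν r * ((C.rel r).2.map A).prod

/-- The hypotheses on the unknowns. -/
structure Unk (C : Cert) (ν : ℕ → Γ) : Prop where
  cen : ∀ j, ν j ∈ Subgroup.center Γ
  exp : ∀ j, ν j ^ C.n = 1

variable {ν A : ℕ → Γ}

theorem ev_add (hn : 0 < C.n ∧ C.n ≤ 16) (hν : Unk C ν) (F F' : ℕ) :
    ev C.M ν (C.add F F') = ev C.M ν F * ev C.M ν F' :=
  ev_fadd hn.1 hn.2 _ _ hν.cen hν.exp _ _

theorem ev_sub (hn : 0 < C.n ∧ C.n ≤ 16) (hν : Unk C ν) (F F' : ℕ) :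
    ev C.M ν (C.sub F F') = ev C.M ν F * (ev C.M ν F')⁻¹ :=
  ev_fsub hn.1 hn.2 hν.cen hν.exp _ _

theorem comm_ev (hν : Unk C ν) (F : ℕ) (x : Γ) : x * ev C.M ν F = ev C.M ν F * x :=
  Subgroup.mem_center_iff.1 (ev_mem_center _ _ hν.cen F) x

theorem step_spec (hν : Unk C ν) (hr : RelHyp C ν A) {x : ℕ × ℕ} {w w' : List ℕ}
    (h : C.step x w = some w') :
    x.2 < C.rels.length ∧ (w.map A).prod = ν x.2 * (w'.map A).prod := by
  unfold step at h
  cases hb : Nat.blt x.2 C.rels.length with
  | false => rw [hb] at h; simp at h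
  | true =>
    rw [hb] at h
    simp only [cond_true, Option.map_eq_some_iff] at h
    obtain ⟨t, ht, rfl⟩ := h
    have hlt : x.2 < C.rels.length := by simpa [Nat.blt, Nat.ble_eq] using hb
    refine ⟨hlt, ?_⟩
    have e := stripPre_spec _ _ _ ht
    conv_lhs => rw [← List.take_append_drop x.1 w, e]
    simp only [List.map_append, List.prod_append, hr _ hlt]
    rw [mul_assoc (ν x.2), ← mul_assoc ((w.take x.1).map A).prod,
      Subgroup.mem_center_iff.1 (hν.cen x.2), mul_assoc]

theorem derive_spec (hn : 0 < C.n ∧ C.n ≤ 16) (hν : Unk C ν) (hr : RelHyp C ν A) :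
    ∀ (xs : List (ℕ × ℕ)) (F : ℕ) (w : List ℕ) (a : ℕ × List ℕ), C.derive xs F w = some a →
      ev C.M ν F * (w.map A).prod = ev C.M ν a.1 * (a.2.map A).prod
  | [], F, w, a, h => by
    simp only [derive, Option.some.injEq] at h
    subst h; rfl
  | x :: xs, F, w, a, h => by
    simp only [derive] at h
    cases hs : C.step x w with
    | none => rw [hs] at h; simp at h
    | some w' =>
      rw [hs] at h
      obtain ⟨hlt, e⟩ := step_spec hν hr hs
      rw [← derive_spec hn hν hr xs _ w' a h, ev_add hn hν,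
        ev_fvar C.M ν x.2 (lt_of_lt_of_le hlt (Nat.le_add_right _ _)), e, mul_assoc]

theorem derive_zero (hn : 0 < C.n ∧ C.n ≤ 16) (hν : Unk C ν) (hr : RelHyp C ν A) {xs : List (ℕ × ℕ)}
    {w : List ℕ} {a : ℕ × List ℕ} (h : C.derive xs 0 w = some a) :
    (w.map A).prod = ev C.M ν a.1 * (a.2.map A).prod := by
  rw [← derive_spec hn hν hr xs 0 w a h, ev_zero, one_mul]

theorem eqS_sound (hn : 0 < C.n ∧ C.n ≤ 16) (hν : Unk C ν) (hr : RelHyp C ν A)
    (x : List ℕ × List (ℕ × ℕ) × List (ℕ × ℕ)) : ev C.M ν (C.eqS x) = 1 := by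
  rw [eqS]
  cases ha : C.derive x.2.1 0 x.1 with
  | none => exact ev_zero _ _
  | some a =>
    cases hb : C.derive x.2.2 0 x.1 with
    | none => exact ev_zero _ _
    | some b =>
      simp only
      cases he : a.2 == b.2 with
      | false => exact ev_zero _ _
      | true =>
        have h := (derive_zero hn hν hr ha).symm.trans (derive_zero hn hν hr hb)
        rw [eq_of_beq he] at h
        rw [cond_true, ev_sub hn hν, mul_right_cancel h, mul_inv_cancel]

theorem slots_prod {g : Γ} (hν : Unk C ν) :
    ∀ w : List ℕ, (∀ s ∈ w, g * ((C.slot s).2.1.map A).prod =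
      ν (C.rels.length + s) * ((C.slot s).2.2.map A).prod * g) →
    g * ((w.flatMap fun s => (C.slot s).2.1).map A).prod =
      (w.map fun s => ν (C.rels.length + s)).prod * ((w.flatMap fun s => (C.slot s).2.2).map A).prod * g
  | [], _ => by simp
  | s :: w, h => by
    simp only [List.flatMap_cons, List.map_append, List.prod_append, List.map_cons, List.prod_cons]
    rw [← mul_assoc, h s List.mem_cons_self, mul_assoc _ g,
      slots_prod hν w fun x hx => h x (List.mem_cons_of_mem _ hx)]
    have hc : (w.map fun s => ν (C.rels.length + s)).prod ∈ Subgroup.center Γ :=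
      list_prod_mem fun x hx => by
        obtain ⟨j, -, rfl⟩ := List.mem_map.1 hx; exact hν.cen _
    have := Subgroup.mem_center_iff.1 hc ((C.slot s).2.2.map A).prod
    simp only [← mul_assoc]
    rw [mul_assoc (ν _) ((C.slot s).2.2.map A).prod, this, ← mul_assoc]

theorem ev_slotVars (hn : 0 < C.n ∧ C.n ≤ 16) (hν : Unk C ν) {w : List ℕ}
    (hw : ∀ s ∈ w, s < C.slots.length) :
    ev C.M ν (C.slotVars w) = (w.map fun s => ν (C.rels.length + s)).prod := by
  rw [slotVars, ev_fsum hn.1 hn.2 hν.cen hν.exp, List.map_map]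
  refine congrArg List.prod (List.map_congr_left fun s hs => ?_)
  exact ev_fvar _ _ _ (Nat.add_lt_add_left (hw s hs) _)

theorem eqC_sound (hn : 0 < C.n ∧ C.n ≤ 16) (hν : Unk C ν) (hr : RelHyp C ν A) {Gc : ℕ → Γ}
    (hG : ∀ s < C.slots.length, Gc (C.slot s).1 * ((C.slot s).2.1.map A).prod =
      ν (C.rels.length + s) * ((C.slot s).2.2.map A).prod * Gc (C.slot s).1)
    (x : (List ℕ × List ℕ) × (List (ℕ × ℕ) × List (ℕ × ℕ)) × (List (ℕ × ℕ) × List (ℕ × ℕ)))
    (hx : ∀ s ∈ x.1.1 ++ x.1.2, s < C.slots.length ∧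
      (C.slot s).1 = (C.slot ((x.1.1 ++ x.1.2).headD 0)).1) :
    ev C.M ν (C.eqC x) = 1 := by
  rw [eqC]
  set g := Gc (C.slot ((x.1.1 ++ x.1.2).headD 0)).1
  have key : ∀ (w : List ℕ), (∀ s ∈ w, s ∈ x.1.1 ++ x.1.2) → ∀ (xs xs' : List (ℕ × ℕ)) (a a' : ℕ × List ℕ),
      C.derive xs 0 (w.flatMap fun s => (C.slot s).2.1) = some a →
      C.derive xs' 0 (w.flatMap fun s => (C.slot s).2.2) = some a' →
      g * (a.2.map A).prod =
        ev C.M ν (C.sub (C.add (C.slotVars w) a'.1) a.1) * ((a'.2.map A).prod * g) := by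
    intro w hw xs xs' a a' ha ha'
    have h := slots_prod (g := g) hν w fun s hs => by
      have := hG s (hx s (hw s hs)).1
      rwa [(hx s (hw s hs)).2] at this
    rw [derive_zero hn hν hr ha, derive_zero hn hν hr ha', ← ev_slotVars hn hν fun s hs => (hx s (hw s hs)).1] at h
    rw [ev_sub hn hν, ev_add hn hν]
    have hac := ev_mem_center C.M ν hν.cen a.1
    generalize ev C.M ν a.1 = α at h hac ⊢
    generalize ev C.M ν (C.slotVars w) = S at h ⊢
    generalize ev C.M ν a'.1 = β at h ⊢
    have h1 : α * (g * (a.2.map A).prod) = S * (β * (a'.2.map A).prod) * g := by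
      rw [← h, ← mul_assoc g α, Subgroup.mem_center_iff.1 hac g, mul_assoc]
    calc g * (a.2.map A).prod = α⁻¹ * (α * (g * (a.2.map A).prod)) := by group
      _ = α⁻¹ * (S * β) * ((a'.2.map A).prod * g) := by rw [h1]; simp only [mul_assoc]
      _ = _ := by rw [← Subgroup.mem_center_iff.1 (inv_mem hac) (S * β)]
  cases ha : C.derive x.2.1.1 0 (x.1.1.flatMap fun s => (C.slot s).2.1) with
  | none => exact ev_zero _ _
  | some a =>
    cases ha' : C.derive x.2.1.2 0 (x.1.1.flatMap fun s => (C.slot s).2.2) with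
    | none => exact ev_zero _ _
    | some a' =>
      cases hb : C.derive x.2.2.1 0 (x.1.2.flatMap fun s => (C.slot s).2.1) with
      | none => exact ev_zero _ _
      | some b =>
        cases hb' : C.derive x.2.2.2 0 (x.1.2.flatMap fun s => (C.slot s).2.2) with
        | none => exact ev_zero _ _
        | some b' =>
          simp only
          cases he : a.2 == b.2 && a'.2 == b'.2 with
          | false => exact ev_zero _ _
          | true =>
            simp only [Bool.and_eq_true] at he
            have k1 := key x.1.1 (fun s hs => List.mem_append_left _ hs) _ _ a a' ha ha'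
            have k2 := key x.1.2 (fun s hs => List.mem_append_right _ hs) _ _ b b' hb hb'
            rw [eq_of_beq he.1, k2, eq_of_beq he.2] at k1
            rw [cond_true, ev_sub hn hν, mul_inv_eq_one]
            exact (mul_right_cancel k1).symm

end Cert

end Cfsg.Agent.WordCert
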